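import Groth.Prelude.Def_W4bk4hartshdef114Obs
import Mathlib.RingTheory.Filtration
import Mathlib.RingTheory.RegularLocalRing.Defs
import Mathlib.RingTheory.HopkinsLevitzki
import Mathlib.RingTheory.Ideal.KrullsHeightTheorem
import Mathlib.LinearAlgebra.TensorProduct.Basis
import Mathlib.LinearAlgebra.FiniteDimensional.Defs

/-! An obstruction space bounds the number of equations. -/

open IsLocalRing TensorProduct

noncomputable section

namespace Groth.Agent.ObsBound

universe u

theorem exists_coords {k V W : Type u} [CommRing k] [AddCommGroup V] [Module k V] [AddCommGroup W] [Module k W]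
    {r : ℕ} (b : Module.Basis (Fin r) k V) (z : V ⊗[k] W) : ∃ j : Fin r → W, z = ∑ i, b i ⊗ₜ j i := by
  induction z using TensorProduct.induction_on with
  | zero => exact ⟨0, by simp⟩
  | add x y hx hy =>
    obtain ⟨j, rfl⟩ := hx
    obtain ⟨j', rfl⟩ := hy
    exact ⟨j + j', by simp [tmul_add, Finset.sum_add_distrib]⟩
  | tmul v w =>
    refine ⟨fun i => b.repr v i • w, ?_⟩
    conv_lhs => rw [← b.sum_repr v, sum_tmul]
    exact Finset.sum_congr rfl fun i _ => by rw [smul_tmul]

variable {k : Type u} [Field k] {P : Type u} [CommRing P] [IsLocalRing P] [IsNoetherianRing P] [Algebra k P]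

theorem exists_small_set (hres : Function.Surjective (algebraMap k (ResidueField P))) (I : Ideal P)
    (hI : I ≤ maximalIdeal P ^ 2) (V : Type u) [AddCommGroup V] [Module k V] [Module.Finite k V]
    (T : W4bk4hartshdef114.ObsTheory k (P ⧸ I) V) :
    ∃ s : Finset P, Ideal.span (s : Set P) = I ∧ s.card ≤ Module.finrank k V := by
  classical
  set m := maximalIdeal P
  have hIm : I ≤ m := hI.trans (Ideal.pow_le_self two_ne_zero)
  -- Artin–Rees
  obtain ⟨c, hc⟩ := m.exists_pow_inf_eq_pow_smul (M := P) I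
  have hAR : m ^ (c + 1) ⊓ I ≤ m * I := by
    have h1 := hc (c + 1) (Nat.le_succ c)
    rw [Nat.add_sub_cancel_left, pow_one, Ideal.smul_eq_mul, Ideal.smul_eq_mul, Ideal.mul_top] at h1
    rw [h1]
    exact Ideal.mul_mono le_rfl inf_le_right
  let K₀ : Ideal P := m * I ⊔ m ^ (c + 1)
  have hK₀ : K₀ ≤ m := sup_le (Ideal.mul_le_right.trans hIm) (Ideal.pow_le_self (Nat.succ_ne_zero c))
  let C := P ⧸ K₀
  let π : P →ₐ[k] C := Ideal.Quotient.mkₐ k K₀
  have hπ : Function.Surjective π := Ideal.Quotient.mk_surjective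
  let J : Ideal C := I.map π
  have : Nontrivial C := Ideal.Quotient.nontrivial_iff.2 fun h => (maximalIdeal.isMaximal P).ne_top (top_le_iff.1 (h ▸ hK₀))
  have hloc : IsLocalRing C := .of_surjective' (Ideal.Quotient.mk K₀) Ideal.Quotient.mk_surjective
  have hmC : maximalIdeal C = m.map (Ideal.Quotient.mk K₀) :=
    (IsLocalRing.map_maximalIdeal_of_surjective _ Ideal.Quotient.mk_surjective).symm
  have hart : IsArtinianRing C := by
    rw [isArtinianRing_iff_isNilpotent_maximalIdeal]
    refine ⟨c + 1, ?_⟩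
    rw [hmC, ← Ideal.map_pow, Ideal.zero_eq_bot, Ideal.map_eq_bot_iff_le_ker, Ideal.mk_ker]
    exact le_sup_right
  have hJm : J ≤ maximalIdeal C := hmC ▸ Ideal.map_mono hIm
  have hsmall : W4bk4hartshdef114.IsSmallExt k C J := by
    refine ⟨hloc, hart, fun x => ?_, fun x j hx hj => ?_, fun h => (maximalIdeal.isMaximal C).ne_top (top_le_iff.1 (h ▸ hJm))⟩
    · obtain ⟨p, rfl⟩ := hπ x
      obtain ⟨a, ha⟩ := hres (residue P p)
      refine ⟨a, ?_⟩
      rw [IsScalarTower.algebraMap_apply k P (ResidueField P)] at ha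
      have hmem : p - algebraMap k P a ∈ m := by
        rw [← residue_eq_zero_iff, map_sub, ← ha]
        exact sub_self _
      have := Ideal.mem_map_of_mem (Ideal.Quotient.mk K₀) hmem
      rw [← hmC, map_sub] at this
      exact this
    · obtain ⟨p, rfl⟩ := hπ x
      have hp : p ∈ m := fun hu => hx (hu.map π)
      obtain ⟨i, hi, rfl⟩ := (Ideal.mem_map_iff_of_surjective _ hπ).1 hj
      rw [← map_mul]
      exact Ideal.Quotient.eq_zero_iff_mem.2 (Ideal.mem_sup_left (Ideal.mul_mem_mul hp hi))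
  -- the tautological map and its obstruction
  let u : (P ⧸ I) →ₐ[k] C ⧸ J := Ideal.Quotient.liftₐ I ((Ideal.Quotient.mkₐ k J).comp π)
    fun a ha => Ideal.Quotient.eq_zero_iff_mem.2 (Ideal.mem_map_of_mem _ ha)
  let bV := Module.finBasis k V
  obtain ⟨j, hj⟩ := exists_coords bV (T.obs C J u)
  let K : Ideal C := Ideal.span (Set.range fun i => (j i : C))
  have hKJ : K ≤ J := Ideal.span_le.2 (by rintro _ ⟨i, rfl⟩; exact (j i).2)
  have hKzero : T.obs (C ⧸ K) (J.map (Ideal.Quotient.mkₐ k K))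
      (((DoubleQuot.quotQuotEquivQuotOfLEₐ k hKJ).symm : (C ⧸ J) →ₐ[k] _).comp u) = 0 := by
    rw [T.obs_quot C J K hsmall hKJ u, hj, map_sum]
    refine Finset.sum_eq_zero fun i _ => ?_
    rw [LinearMap.lTensor_tmul, show W4bk4hartshdef114.idealToQuot k J K (j i) = 0 from
      Subtype.ext (Ideal.Quotient.eq_zero_iff_mem.2 (Ideal.subset_span ⟨i, rfl⟩)), tmul_zero]
  let D := C ⧸ K
  let σ : C →ₐ[k] D := Ideal.Quotient.mkₐ k K
  have hσ : Function.Surjective σ := Ideal.Quotient.mk_surjective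
  let J' : Ideal D := J.map σ
  have : Nontrivial D := Ideal.Quotient.nontrivial_iff.2 fun h =>
    (maximalIdeal.isMaximal C).ne_top (top_le_iff.1 (h ▸ hKJ.trans hJm))
  have hlocD : IsLocalRing D := .of_surjective' (Ideal.Quotient.mk K) Ideal.Quotient.mk_surjective
  have hmD : maximalIdeal D = (maximalIdeal C).map (Ideal.Quotient.mk K) :=
    (IsLocalRing.map_maximalIdeal_of_surjective _ Ideal.Quotient.mk_surjective).symm
  have hkill : ∀ x ∈ maximalIdeal D, ∀ y ∈ J', x * y = 0 := by
    intro x hx y hy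
    rw [hmD, Ideal.mem_map_iff_of_surjective _ Ideal.Quotient.mk_surjective] at hx
    obtain ⟨x, hx, rfl⟩ := hx
    obtain ⟨w, hw, rfl⟩ := (Ideal.mem_map_iff_of_surjective _ hσ).1 hy
    show σ x * σ w = 0
    rw [← map_mul, hsmall.2.2.2.1 x w hx hw, map_zero]
  have hsmallD : W4bk4hartshdef114.IsSmallExt k D J' := by
    refine ⟨hlocD, inferInstance, fun x => ?_, fun x y hx hy => hkill x hx y hy, fun h => ?_⟩
    · obtain ⟨x, rfl⟩ := hσ x
      obtain ⟨a, ha⟩ := hsmall.2.2.1 x
      refine ⟨a, ?_⟩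
      have := Ideal.mem_map_of_mem (Ideal.Quotient.mk K) (show x - algebraMap k C a ∈ maximalIdeal C from ha)
      rw [← hmD, map_sub] at this
      exact this
    · refine (maximalIdeal.isMaximal D).ne_top (top_le_iff.1 ?_)
      rw [← h, hmD]
      exact Ideal.map_mono hJm
  obtain ⟨u', hu'⟩ := (T.obs_eq_zero_iff D J' hsmallD _).1 hKzero
  let g : P →ₐ[k] D := u'.comp (Ideal.Quotient.mkₐ k I)
  let h : P →ₐ[k] D := σ.comp π
  have hdiff : ∀ p, g p - h p ∈ J' := fun p => Ideal.Quotient.eq.1 (by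
    have := DFunLike.congr_fun hu' (Ideal.Quotient.mk I p)
    exact this.trans rfl)
  have hhm : ∀ p ∈ m, h p ∈ maximalIdeal D := fun p hp => by
    rw [hmD, hmC]; exact Ideal.mem_map_of_mem _ (Ideal.mem_map_of_mem _ hp)
  have hsq : ∀ p ∈ m ^ 2, g p = h p := by
    intro p hp
    rw [pow_two] at hp
    induction hp using Submodule.mul_induction_on' with
    | mem_mul_mem a ha b hb =>
      have hJD : J' ≤ maximalIdeal D := hmD ▸ Ideal.map_mono hJm
      rw [map_mul, map_mul, show g a = h a + (g a - h a) by ring, show g b = h b + (g b - h b) by ring, mul_add,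
        add_mul, add_mul, hkill _ (hhm a ha) _ (hdiff b), hkill _ (hJD (hdiff a)) _ (hdiff b),
        mul_comm (g a - h a), hkill _ (hhm b hb) _ (hdiff a)]
      ring
    | add a _ b _ ha hb => rw [map_add, map_add, ha, hb]
  have hzero : ∀ i ∈ I, π i ∈ K := fun i hi => by
    refine Ideal.Quotient.eq_zero_iff_mem.1 ?_
    show h i = 0
    rw [← hsq i (hI hi)]
    show u' (Ideal.Quotient.mk I i) = 0
    rw [Ideal.Quotient.eq_zero_iff_mem.2 hi, map_zero]
  -- lift the generators
  choose t ht htj using fun i => (Ideal.mem_map_iff_of_surjective _ hπ).1 (j i).2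
  let s : Finset P := Finset.univ.image t
  refine ⟨s, le_antisymm (Ideal.span_le.2 ?_) ?_, Finset.card_image_le.trans (by simp)⟩
  · intro x hx
    obtain ⟨i, -, rfl⟩ := Finset.mem_image.1 (Finset.mem_coe.1 hx)
    exact ht i
  · refine Submodule.le_of_le_smul_of_le_jacobson_bot (I := m) (IsNoetherian.noetherian I)
      (maximalIdeal_le_jacobson _) fun x hx => ?_
    have hs : (Ideal.span (s : Set P)).map π = K := by
      rw [Ideal.map_span, Finset.coe_image, Finset.coe_univ, Set.image_univ, ← Set.range_comp]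
      exact congrArg Ideal.span (congrArg Set.range (funext htj))
    obtain ⟨y, hy, hye⟩ := (Ideal.mem_map_iff_of_surjective _ hπ).1 (hs ▸ hzero x hx)
    have hsI : Ideal.span (s : Set P) ≤ I := Ideal.span_le.2 fun z hz => by
      obtain ⟨i, -, rfl⟩ := Finset.mem_image.1 (Finset.mem_coe.1 hz)
      exact ht i
    obtain ⟨a, ha, b, hb, hab⟩ := Submodule.mem_sup.1 (Ideal.Quotient.eq.1 hye.symm : x - y ∈ K₀)
    have hbI : b ∈ I := by
      rw [show b = x - y - a by rw [← hab]; ring]
      exact sub_mem (sub_mem hx (hsI hy)) (Ideal.mul_le_right ha)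
    refine Submodule.mem_sup.2 ⟨y, hy, a + b, ?_, by rw [hab]; ring⟩
    exact Submodule.add_mem _ ha (hAR ⟨hb, hbI⟩)

end Groth.Agent.ObsBound
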