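import Groth.Agent.CotT.PointSmooth
import Mathlib.RingTheory.Filtration
import Mathlib.RingTheory.HopkinsLevitzki
import Mathlib.RingTheory.EssentialFiniteness
import Mathlib.RingTheory.Smooth.Basic

/-! Regularity and lifting against local Artin rings. -/

open IsLocalRing

noncomputable section

namespace Groth.Agent.ObsBound

universe u

variable {k : Type u} [Field k]

theorem moduleFinite_of_nilpotent {C : Type u} [CommRing C] [IsLocalRing C] [Algebra k C] [IsNoetherianRing C]
    (hres : ∀ x : C, ∃ c : k, x - algebraMap k C c ∈ maximalIdeal C) {N : ℕ} (hN : maximalIdeal C ^ N = ⊥) :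
    Module.Finite k C := by
  classical
  obtain ⟨G, hG⟩ := (IsNoetherian.noetherian (maximalIdeal C) : (maximalIdeal C).FG)
  suffices h : ∀ n, ∃ W : Submodule k C, W.FG ∧ ∀ x, ∃ w ∈ W, x - w ∈ maximalIdeal C ^ n by
    obtain ⟨W, hW, hall⟩ := h N
    refine ⟨?_⟩
    convert hW
    refine (eq_top_iff.2 fun x _ => ?_).symm
    obtain ⟨w, hw, hd⟩ := hall x
    rw [hN, Submodule.mem_bot, sub_eq_zero] at hd
    exact hd ▸ hw
  intro n
  induction n with
  | zero => exact ⟨⊥, Submodule.fg_bot, fun x => ⟨0, Submodule.zero_mem _, by simp⟩⟩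
  | succ n ih =>
    obtain ⟨W, hW, hall⟩ := ih
    refine ⟨Submodule.span k {1} ⊔ G.sup fun g => W.map (LinearMap.mulLeft k g),
      (Submodule.fg_span_singleton _).sup (Submodule.fg_finset_sup _ _ fun g _ => hW.map _), fun x => ?_⟩
    obtain ⟨c, hc⟩ := hres x
    rw [← hG, Submodule.mem_span_finset] at hc
    obtain ⟨y, -, hy⟩ := hc
    choose w hw hd using hall
    refine ⟨algebraMap k C c + ∑ g ∈ G, g * w (y g), Submodule.add_mem _ (Submodule.mem_sup_left ?_) ?_, ?_⟩
    · rw [Algebra.algebraMap_eq_smul_one]; exact Submodule.smul_mem _ _ (Submodule.mem_span_singleton_self _)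
    · exact Submodule.mem_sup_right (Submodule.sum_mem _ fun g hg =>
        (Finset.le_sup (f := fun g => W.map (LinearMap.mulLeft k g)) hg) ⟨_, hw (y g), rfl⟩)
    · rw [← sub_sub, ← hy, ← Finset.sum_sub_distrib]
      refine Submodule.sum_mem _ fun g hg => ?_
      rw [smul_eq_mul, mul_comm (y g), ← mul_sub, pow_succ']
      exact Ideal.mul_mem_mul (hG ▸ Ideal.subset_span hg) (hd (y g))

/-- Lifting against square-zero extensions of finite local algebras forces regularity. -/
theorem regular_of_lift {P A : Type u} [CommRing P] [IsRegularLocalRing P] [Algebra k P] [CommRing A] [IsLocalRing A]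
    [Algebra k A] (φ : P →ₐ[k] A) (hφ : Function.Surjective φ)
    (hres : Function.Surjective (algebraMap k (ResidueField A)))
    (hlift : ∀ (B' : Type u) [CommRing B'] [IsLocalRing B'] [Algebra k B'] [Module.Finite k B'] (J : Ideal B'),
      J ^ 2 = ⊥ → ∀ f : A →ₐ[k] B' ⧸ J, ∃ g : A →ₐ[k] B', (Ideal.Quotient.mkₐ k J).comp g = f) :
    IsRegularLocalRing A := by
  set m := maximalIdeal P
  let I : Ideal P := RingHom.ker φ.toRingHom
  let e : (P ⧸ I) ≃+* A := RingHom.quotientKerEquivOfSurjective (f := φ.toRingHom) hφ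
  have hne : I ≠ ⊤ := RingHom.ker_ne_top _
  have hIm : I ≤ m := le_maximalIdeal hne
  have hmA : m.map φ.toRingHom = maximalIdeal A := IsLocalRing.map_maximalIdeal_of_surjective φ.toRingHom hφ
  have hc : ∀ p : P, ∃ a : k, p - algebraMap k P a ∈ m := fun p => by
    obtain ⟨a, ha⟩ := hres (residue A (φ p))
    refine ⟨a, ?_⟩
    rw [IsScalarTower.algebraMap_apply k A (ResidueField A)] at ha
    have h1 : φ (p - algebraMap k P a) ∈ maximalIdeal A := by
      rw [← residue_eq_zero_iff, map_sub, AlgHom.commutes, map_sub, ← ha]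
      exact sub_self _
    exact fun hu => h1 (hu.map φ)
  suffices hsq : I ⊓ m ^ 2 ≤ m * I by
    have : IsRegularRing (P ⧸ I) := CotT.regular_quot_aux _ P le_rfl I hne hsq
    have : IsRegularRing A := IsRegularRing.of_ringEquiv e
    exact IsRegularLocalRing.of_isRegularRing_of_isLocalRing A
  obtain ⟨c, hc'⟩ := m.exists_pow_inf_eq_pow_smul (M := P) I
  have hAR : m ^ (c + 1) ⊓ I ≤ m * I := by
    have h1 := hc' (c + 1) (Nat.le_succ c)
    rw [Nat.add_sub_cancel_left, pow_one, Ideal.smul_eq_mul, Ideal.smul_eq_mul, Ideal.mul_top] at h1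
    rw [h1]
    exact Ideal.mul_mono le_rfl inf_le_right
  let K₀ : Ideal P := m * I ⊔ m ^ (c + 1)
  have hK₀ : K₀ ≤ m := sup_le (Ideal.mul_le_right.trans hIm) (Ideal.pow_le_self (Nat.succ_ne_zero c))
  let C := P ⧸ K₀
  let π : P →ₐ[k] C := Ideal.Quotient.mkₐ k K₀
  have hπ : Function.Surjective π := Ideal.Quotient.mk_surjective
  let J : Ideal C := I.map π
  have : Nontrivial C := Ideal.Quotient.nontrivial_iff.2 fun h =>
    (maximalIdeal.isMaximal P).ne_top (top_le_iff.1 (h ▸ hK₀))
  have hloc : IsLocalRing C := .of_surjective' (Ideal.Quotient.mk K₀) Ideal.Quotient.mk_surjective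
  have hmC : maximalIdeal C = m.map (Ideal.Quotient.mk K₀) :=
    (IsLocalRing.map_maximalIdeal_of_surjective _ Ideal.Quotient.mk_surjective).symm
  have hnil : maximalIdeal C ^ (c + 1) = ⊥ := by
    rw [hmC, ← Ideal.map_pow, Ideal.map_eq_bot_iff_le_ker, Ideal.mk_ker]
    exact le_sup_right
  have hfin : Module.Finite k C := moduleFinite_of_nilpotent (fun x => by
    obtain ⟨p, rfl⟩ := hπ x
    obtain ⟨a, ha⟩ := hc p
    refine ⟨a, ?_⟩
    have := Ideal.mem_map_of_mem (Ideal.Quotient.mk K₀) ha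
    rw [← hmC, map_sub] at this
    exact this) hnil
  have hkill : ∀ x ∈ m, ∀ j ∈ J, π x * j = 0 := fun x hx j hj => by
    obtain ⟨i, hi, rfl⟩ := (Ideal.mem_map_iff_of_surjective _ hπ).1 hj
    rw [← map_mul]
    exact Ideal.Quotient.eq_zero_iff_mem.2 (Ideal.mem_sup_left (Ideal.mul_mem_mul hx hi))
  have hJ2 : J ^ 2 = ⊥ := by
    rw [pow_two, eq_bot_iff, Ideal.mul_le]
    intro x hx y hy
    obtain ⟨i, hi, rfl⟩ := (Ideal.mem_map_iff_of_surjective _ hπ).1 hx
    exact hkill i (hIm hi) y hy
  let u₀ : (P ⧸ I) →ₐ[k] C ⧸ J := Ideal.Quotient.liftₐ I ((Ideal.Quotient.mkₐ k J).comp π)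
    fun a ha => Ideal.Quotient.eq_zero_iff_mem.2 (Ideal.mem_map_of_mem _ ha)
  let eA : (P ⧸ I) ≃ₐ[k] A := Ideal.quotientKerAlgEquivOfSurjective hφ
  obtain ⟨g₀, hg₀⟩ := hlift C J hJ2 (u₀.comp eA.symm.toAlgHom)
  let g : P →ₐ[k] C := g₀.comp φ
  have hdiff : ∀ p, g p - π p ∈ J := fun p => Ideal.Quotient.eq.1 (by
    have h1 := DFunLike.congr_fun hg₀ (φ p)
    have h2 : eA.symm (φ p) = Ideal.Quotient.mk I p := eA.injective (by rw [AlgEquiv.apply_symm_apply]; rfl)
    exact h1.trans (by show u₀ (eA.symm (φ p)) = _; rw [h2]; rfl))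
  have hJJ : ∀ x ∈ J, ∀ y ∈ J, x * y = 0 := fun x hx y hy => by
    have h3 : x * y ∈ J ^ 2 := pow_two J ▸ Ideal.mul_mem_mul hx hy
    rwa [hJ2, Submodule.mem_bot] at h3
  have hsame : ∀ p ∈ m ^ 2, g p = π p := by
    intro p hp
    rw [pow_two] at hp
    induction hp using Submodule.mul_induction_on' with
    | mem_mul_mem a ha b hb =>
      rw [map_mul, map_mul, show g a = π a + (g a - π a) by ring, show g b = π b + (g b - π b) by ring, mul_add,
        add_mul, add_mul, hkill a ha _ (hdiff b), hJJ _ (hdiff a) _ (hdiff b), mul_comm (g a - π a),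
        hkill b hb _ (hdiff a)]
      ring
    | add a _ b _ ha hb => rw [map_add, map_add, ha, hb]
  rintro x ⟨hxI, hx2⟩
  have h0 : π x = 0 := by
    rw [← hsame x hx2]
    show g₀ (φ x) = 0
    rw [show φ x = 0 from hxI, map_zero]
  obtain ⟨a, ha, b, hb, hab⟩ := Submodule.mem_sup.1 (Ideal.Quotient.eq_zero_iff_mem.1 h0)
  have hbI : b ∈ I := by
    rw [show b = x - a by rw [← hab]; ring]
    exact sub_mem hxI (Ideal.mul_le_right ha)
  exact hab ▸ Submodule.add_mem _ ha (hAR ⟨hb, hbI⟩)

theorem exists_model (k A : Type u) [Field k] [CommRing A] [IsLocalRing A] [Algebra k A] [Algebra.EssFiniteType k A]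
    (hres : Function.Surjective (algebraMap k (ResidueField A))) :
    ∃ (B : Subalgebra k A) (m : Ideal B) (_ : Algebra.FiniteType k B) (_ : m.IsMaximal),
      Nonempty (Localization.AtPrime m ≃ₐ[k] A) := by
  let B := Algebra.EssFiniteType.subalgebra k A
  let m : Ideal B := (maximalIdeal A).comap (algebraMap B A)
  have hsurj : Function.Surjective ((residue A).comp (algebraMap B A)) := fun y => by
    obtain ⟨a, ha⟩ := hres y
    exact ⟨algebraMap k B a, ha⟩
  have hker : RingHom.ker ((residue A).comp (algebraMap B A)) = m := by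
    rw [← RingHom.comap_ker, ker_residue]
  have hm : m.IsMaximal := hker ▸ RingHom.ker_isMaximal_of_surjective _ hsurj
  have : IsLocalization m.primeCompl A := by
    refine ⟨fun s => ?_, fun z => ?_, fun {x y} h => ?_⟩
    · by_contra hs
      exact s.2 hs
    · obtain ⟨⟨b, t⟩, h⟩ := IsLocalization.surj (Algebra.EssFiniteType.submonoid k A) z
      exact ⟨⟨b, ⟨t, fun ht => ht (IsLocalization.map_units A t)⟩⟩, h⟩
    · obtain ⟨t, h⟩ := (IsLocalization.eq_iff_exists (Algebra.EssFiniteType.submonoid k A) A).1 h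
      exact ⟨⟨t, fun ht => ht (IsLocalization.map_units A t)⟩, h⟩
  exact ⟨B, m, inferInstance, hm, ⟨(IsLocalization.algEquiv m.primeCompl (Localization.AtPrime m) A).restrictScalars k⟩⟩

theorem regular_iff_lift (k A : Type u) [Field k] [IsAlgClosed k] [CommRing A] [IsLocalRing A] [Algebra k A]
    [Algebra.EssFiniteType k A] (hres : Function.Surjective (algebraMap k (ResidueField A))) :
    IsRegularLocalRing A ↔
      ∀ (B' : Type u) [CommRing B'] [IsLocalRing B'] [Algebra k B'] [Module.Finite k B'] (J : Ideal B'),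
        J ^ 2 = ⊥ → ∀ f : A →ₐ[k] B' ⧸ J, ∃ g : A →ₐ[k] B', (Ideal.Quotient.mkₐ k J).comp g = f := by
  obtain ⟨B, m, hB, hm, ⟨e⟩⟩ := exists_model k A hres
  constructor
  · intro hA B' _ _ _ _ J hJ f
    have := IsRegularLocalRing.of_ringEquiv e.symm.toRingEquiv
    have : Algebra.FormallySmooth k A :=
      (Algebra.FormallySmooth.iff_of_equiv e).1 ((CotT.regular_iff_smoothAt (k := k) m).1 this)
    exact Algebra.FormallySmooth.exists_lift J ⟨2, hJ⟩ f
  · intro h
    obtain ⟨n, π, hπ⟩ := Algebra.FiniteType.iff_quotient_mvPolynomial''.1 hB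
    let M := m.comap π.toRingHom
    have : M.IsMaximal := Ideal.comap_isMaximal_of_surjective π.toRingHom hπ
    let ψ := Localization.localRingHom M m π.toRingHom rfl
    have hψ : Function.Surjective ψ := RingHom.surjective_localRingHom_of_surjective π.toRingHom hπ m
    let ψ' : Localization.AtPrime M →ₐ[k] Localization.AtPrime m := AlgHom.mk ψ fun x => by
      show ψ (algebraMap k (Localization.AtPrime M) x) = _
      rw [IsScalarTower.algebraMap_apply k (MvPolynomial (Fin n) k) (Localization.AtPrime M),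
        Localization.localRingHom_to_map, IsScalarTower.algebraMap_apply k B (Localization.AtPrime m)]
      exact congrArg _ (π.commutes x)
    exact regular_of_lift (e.toAlgHom.comp ψ') (e.surjective.comp hψ) hres h

end Groth.Agent.ObsBound
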